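import Groth.Agent.Clifford24.Subcurves.Step
import Groth.Agent.AbCubeLib.FiniteDegree

/-!
# Global generation from the degrees on the subcurves
-/

set_option autoImplicit false
set_option linter.style.haveILetI false
set_option backward.isDefEq.respectTransparency.types false

universe u

open CategoryTheory CategoryTheory.Limits AlgebraicGeometry Opposite TopologicalSpace
open Groth.Agent.Coherent Groth.Agent.PicLib Groth.Agent.AmpleLib Groth.Agent.EulerLib

namespace Groth.Agent.Subcurves24

variable (k : Type u) [Field k] {X : Scheme.{u}} [X.Over (Spec (CommRingCat.of k))]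
  [IsProper (X ↘ Spec (CommRingCat.of k))] {L : X.Modules}

/-- The reduced subscheme over `k`. -/
@[reducible]
noncomputable def redOver (T : Closeds X) : (red T).subscheme.Over (Spec (CommRingCat.of k)) :=
  ⟨(red T).subschemeι ≫ (X ↘ Spec (CommRingCat.of k))⟩

theorem finite_HA (M : X.Modules) (hM : Coh.IsCoh M) (q : ℕ) :
    Module.Finite k (HA (baseHom k X) M (⊤ : X.Opens) q) :=
  finCoh_of_isProper (X ↘ Spec (CommRingCat.of k)) M hM q

theorem shortExact_NT (T : Closeds X) (M : X.Modules) :
    (ShortComplex.mk (kernel.ι (resT T M)) (resT T M) (kernel.condition _)).ShortExact := by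
  haveI : Epi (resT T M) := epi_clUnit (red T).subschemeι
  exact { exact := ShortComplex.exact_kernel (resT T M) }

theorem isCoh_push_red [IsLocallyNoetherian X] (T : Closeds X) {M : X.Modules} (hM : Coh.IsCoh M) :
    Coh.IsCoh ((Coh.push (red T).subschemeι).obj ((Scheme.Modules.pullback (red T).subschemeι).obj M)) := by
  haveI : Epi (resT T M) := epi_clUnit (red T).subschemeι
  haveI := hM.1
  haveI : Coh.IsQCoh ((Scheme.Modules.pullback (red T).subschemeι).obj M) :=
    EGA43.InjFibre.isQCoh_pullback _ M
  have h := isCoh_cokernel (kernel.ι (resT T M)) (isCoh_kernel (resT T M) hM (isQCoh_push _ _)).1 hM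
  exact isCoh_iso (IsColimit.coconePointUniqueUpToIso (cokernelIsCokernel _)
    (shortExact_NT T M).gIsCokernel) h

/-- Genus of the reduced subscheme against the classes killed by restriction. -/
theorem finrank_K1_add_genus [IsReduced X] (hdim : topologicalKrullDim X ≤ 1) (T : Closeds X) :
    Module.finrank k (K1 k T) + @Curv2.genus k _ (red T).subscheme (redOver k T) =
      Module.finrank k (HA (baseHom k X) (Coh.structureModule X) (⊤ : X.Opens) 1) := by
  let _ := redOver k T
  haveI := EulerLib.isNoetherian_of_proper k (X := X)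
  haveI : X.IsSeparated := ⟨by rw [← terminal.comp_from (X ↘ Spec (CommRingCat.of k))]; infer_instance⟩
  have hv := Lipman24.noH2_of_dim (X := X) hdim
  have hO := isCoh_structureModule X
  let φ := baseHom k X
  let ι := (red T).subschemeι
  haveI := finite_HA k _ hO 1
  haveI hq : Coh.IsQCoh (Coh.structureModule X) := hO.1
  haveI : Coh.IsQCoh ((Scheme.Modules.pullback ι).obj (Coh.structureModule X)) :=
    EGA43.InjFibre.isQCoh_pullback _ _
  have hS := shortExact_NT T (Coh.structureModule X)
  haveI : Subsingleton (HA φ (NT T (Coh.structureModule X)) (⊤ : X.Opens) (1 + 1)) :=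
    (HHTopEquiv _ 2).symm.toEquiv.subsingleton_congr.2
      (hv _ (isCoh_NT isInvertible_structureModule T).1)
  let f := postA φ (resT T (Coh.structureModule X)) (⊤ : X.Opens) 1
  have hsurj : LinearMap.range f = ⊤ := LinearMap.range_eq_top.2 fun x =>
    (exact_postA_deltaA φ hS ⊤ 1 x).1 (Subsingleton.elim _ _)
  have hker : LinearMap.ker f = K1 k T := LinearMap.exact_iff.1 (exact_postA φ hS ⊤ 1)
  have h := LinearMap.finrank_range_add_finrank_ker f
  rw [hsurj, finrank_top, hker] at h
  obtain ⟨e⟩ := exists_pullStructureIso (X := X) ι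
  have hg : Module.finrank k (HA φ ((Coh.push ι).obj ((Scheme.Modules.pullback ι).obj (Coh.structureModule X))) (⊤ : X.Opens) 1) =
      @Curv2.genus k _ (red T).subscheme (redOver k T) := by
    rw [← (HHBaseEquiv k _ 1).finrank_eq,
      ← (SerreDual.hpush ι k rfl ((Scheme.Modules.pullback ι).obj (Coh.structureModule X)) 1).finrank_eq,
      CurveRR24.finrank_HH_congr k e 1]
    rfl
  rw [hg] at h
  rw [add_comm]
  exact h

/-- If sections lift, they fill the sections of the restriction. -/
theorem finrank_Vs_add_h0 (hL : PicF.IsInvertible L) (T : Closeds X)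
    (h : Subsingleton (HA (baseHom k X) (NT T L) (⊤ : X.Opens) 1)) :
    Module.finrank k (Vs k T L) +
        @Module.finrank k (Coh.HH (red T).subscheme ((Scheme.Modules.pullback (red T).subschemeι).obj L) 0) _ _
          (letI := redOver k T; inferInstance) =
      Module.finrank k (GA (baseHom k X) L) := by
  let _ := redOver k T
  haveI := EulerLib.isNoetherian_of_proper k (X := X)
  have hc := PicLib.isCoh_of_isInvertible hL
  haveI : Coh.IsQCoh ((Scheme.Modules.pullback (red T).subschemeι).obj L) :=
    isQCoh_of_isInvertible (PicLoc.isInvertible_pullback _ hL)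
  let φ := baseHom k X
  haveI : Module.Finite k (GA φ L) :=
    haveI := finite_HA k L hc 0
    Module.Finite.equiv (secA φ L)
  let f := mapGA φ (resT T L)
  have hsurj : LinearMap.range f = ⊤ := LinearMap.range_eq_top.2
    (Lipman24.surjective_app_top (shortExact_NT T L) ((HHTopEquiv (NT T L) 1).toEquiv.subsingleton_congr.2 h))
  have h1 := LinearMap.finrank_range_add_finrank_ker f
  rw [hsurj, finrank_top] at h1
  have h2 := (SerreDual.hpush (red T).subschemeι k rfl
    ((Scheme.Modules.pullback (red T).subschemeι).obj L) 0).finrank_eq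
  rw [(CurveRR24.hhZero k ((Coh.push (red T).subschemeι).obj _)).finrank_eq] at h2
  show Module.finrank k (LinearMap.ker f) + _ = _
  rw [h2, add_comm]
  exact h1

/-- Euler characteristic of the restriction. -/
theorem euler_red (hL : PicF.IsInvertible L) (T : Closeds X) :
    Curv2.euler k X L = Curv2.euler k X (NT T L) +
      @Curv2.euler k _ (red T).subscheme (redOver k T) ((Scheme.Modules.pullback (red T).subschemeι).obj L) := by
  let _ := redOver k T
  haveI := EulerLib.isNoetherian_of_proper k (X := X)
  haveI : X.IsSeparated := ⟨by rw [← terminal.comp_from (X ↘ Spec (CommRingCat.of k))]; infer_instance⟩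
  haveI : Coh.IsQCoh ((Scheme.Modules.pullback (red T).subschemeι).obj L) :=
    isQCoh_of_isInvertible (PicLoc.isInvertible_pullback _ hL)
  have hp := AbCubeLib.euler_push k (red T).subschemeι rfl ((Scheme.Modules.pullback (red T).subschemeι).obj L)
  have hadd : Curv2.euler k X L = Curv2.euler k X (NT T L) +
      Curv2.euler k X ((Coh.push (red T).subschemeι).obj ((Scheme.Modules.pullback (red T).subschemeι).obj L)) :=
    euler_additive k X (ShortComplex.mk (kernel.ι (resT T L)) (resT T L) (kernel.condition _)) (shortExact_NT T L)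
      (isCoh_NT hL T) (PicLib.isCoh_of_isInvertible hL) (isCoh_push_red T (PicLib.isCoh_of_isInvertible hL))
  exact hadd.trans (congrArg (Curv2.euler k X (NT T L) + ·) hp.symm)

theorem subset_of_eq_union {A B U : Set X} (hU : U = A ∪ B) : A ⊆ U ∧ B ⊆ U :=
  hU ▸ ⟨Set.subset_union_left, Set.subset_union_right⟩

/-- The sequence of two disjoint closed sets. -/
noncomputable def pairSeq (hL : PicF.IsInvertible L) {A B U : Closeds X}
    (hU : (U : Set X) = (A : Set X) ∪ B) : ShortComplex X.Modules :=
  ShortComplex.mk (incl hL (subset_of_eq_union hU).1)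
    (kernel.ι (resT A L) ≫ resT B L) (by
      rw [incl_ι_assoc]
      exact comp_resT_eq_zero hL B _ fun V m =>
        (van_app_ι hL U m).mono (subset_of_eq_union hU).2)

theorem shortExact_pairSeq (hL : PicF.IsInvertible L) {A B U : Closeds X}
    (hU : (U : Set X) = (A : Set X) ∪ B) (hd : Disjoint (A : Set X) B) :
    (pairSeq hL hU).ShortExact := by
  haveI : Epi (resT B L) := epi_clUnit (red B).subschemeι
  haveI : Mono (pairSeq hL hU).f := mono_incl hL (subset_of_eq_union hU).1
  haveI : Epi (pairSeq hL hU).g := by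
    show Epi (kernel.ι (resT A L) ≫ resT B L)
    refine epi_of_locally_surjective _ fun V q y hy => ?_
    by_cases hyB : y ∈ B
    · obtain ⟨W, hW, hyW, w, hw⟩ := exists_lift_of_epi (resT B L) V q y hy
      let W' : X.Opens := W ⊓ ⟨(A : Set X)ᶜ, A.isClosed.isOpen_compl⟩
      obtain ⟨m, hm⟩ := exists_app_ι_eq hL A (V := W') (w := resM L inf_le_left w)
        (van_of_disjoint _ (Set.disjoint_left.2 fun z hz hzW => hzW.2 hz))
      refine ⟨W', inf_le_left.trans hW, ⟨hyW, Set.disjoint_right.1 hd hyB⟩, m, ?_⟩
      show (resT B L).app W' ((kernel.ι (resT A L)).app W' m) = _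
      rw [hm, app_resM, hw, resM_resM]
    · let W' : X.Opens := V ⊓ ⟨(B : Set X)ᶜ, B.isClosed.isOpen_compl⟩
      refine ⟨W', inf_le_left, ⟨hy, hyB⟩, 0, ?_⟩
      have : (red B).subschemeι ⁻¹ᵁ W' = ⊥ := Opens.ext (Set.eq_empty_of_forall_notMem fun z hz =>
        hz.2 ((range_red B).subset ⟨z, rfl⟩))
      haveI : Subsingleton Γ((Scheme.Modules.pullback (red B).subschemeι).obj L, (red B).subschemeι ⁻¹ᵁ W') :=
        ⟨fun a b => sec_ext _ _ _ fun z hz => absurd hz (by rw [this]; exact id)⟩
      exact Subsingleton.elim (α := Γ((Scheme.Modules.pullback (red B).subschemeι).obj L, (red B).subschemeι ⁻¹ᵁ W')) _ _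
  refine { exact := ShortComplex.exact_of_f_is_kernel _ ?_ }
  refine KernelFork.IsLimit.ofι _ _ (fun {W} g hg => kernel.lift _ (g ≫ kernel.ι (resT A L)) ?_)
    (fun {W} g hg => ?_) (fun {W} g hg m hm => ?_)
  · refine comp_resT_eq_zero hL U _ fun V a => ?_
    rw [hU]
    refine Van.union (van_app_ι hL A (g.app V a)) ((pullSec_red_eq_zero_iff hL B _).1 ?_)
    exact congrArg (fun θ => Scheme.Modules.Hom.app θ V a) hg
  · refine (cancel_mono (kernel.ι (resT A L))).1 ?_
    show (kernel.lift _ _ _ ≫ incl hL (subset_of_eq_union hU).1) ≫ _ = _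
    rw [Category.assoc, incl_ι, kernel.lift_ι]
    rfl
  · refine (cancel_mono (kernel.ι (resT U L))).1 ?_
    refine Eq.trans ?_ (kernel.lift_ι _ _ _).symm
    rw [← hm]
    exact (congrArg (m ≫ ·) (incl_ι hL (subset_of_eq_union hU).1).symm).trans (Category.assoc _ _ _).symm

/-- Additivity on two disjoint closed sets. -/
theorem euler_pair (hL : PicF.IsInvertible L) {A B U : Closeds X}
    (hU : (U : Set X) = (A : Set X) ∪ B) (hd : Disjoint (A : Set X) B) :
    Curv2.euler k X (NT A L) = Curv2.euler k X (NT U L) +
      @Curv2.euler k _ (red B).subscheme (redOver k B) ((Scheme.Modules.pullback (red B).subschemeι).obj L) := by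
  let _ := redOver k B
  haveI := EulerLib.isNoetherian_of_proper k (X := X)
  haveI : X.IsSeparated := ⟨by rw [← terminal.comp_from (X ↘ Spec (CommRingCat.of k))]; infer_instance⟩
  haveI : Coh.IsQCoh ((Scheme.Modules.pullback (red B).subschemeι).obj L) :=
    isQCoh_of_isInvertible (PicLoc.isInvertible_pullback _ hL)
  have hp := AbCubeLib.euler_push k (red B).subschemeι rfl ((Scheme.Modules.pullback (red B).subschemeι).obj L)
  have hadd : Curv2.euler k X (NT A L) = Curv2.euler k X (NT U L) +
      Curv2.euler k X ((Coh.push (red B).subschemeι).obj ((Scheme.Modules.pullback (red B).subschemeι).obj L)) :=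
    euler_additive k X (pairSeq hL hU) (shortExact_pairSeq hL hU hd) (isCoh_NT hL U) (isCoh_NT hL A)
      (isCoh_push_red B (PicLib.isCoh_of_isInvertible hL))
  exact hadd.trans (congrArg (Curv2.euler k X (NT U L) + ·) hp.symm)

theorem finrank_K1_le [IsReduced X] (hdim : topologicalKrullDim X ≤ 1) {A B U : Closeds X}
    (hU : (U : Set X) = (A : Set X) ∪ B) (hd : Disjoint (A : Set X) B) :
    Module.finrank k (K1 k A) ≤
      Module.finrank k (K1 k U) + @Curv2.genus k _ (red B).subscheme (redOver k B) := by
  let _ := redOver k B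
  haveI := EulerLib.isNoetherian_of_proper k (X := X)
  have hO : PicF.IsInvertible (Coh.structureModule X) := isInvertible_structureModule
  let φ := baseHom k X
  haveI := finite_HA k _ (isCoh_structureModule X) 1
  haveI := finite_HA k _ (isCoh_NT hO A) 1
  haveI hq : Coh.IsQCoh ((Scheme.Modules.pullback (red B).subschemeι).obj (Coh.structureModule X)) :=
    isQCoh_of_isInvertible (PicLoc.isInvertible_pullback _ hO)
  haveI := finite_HA k _ (isCoh_push_red B (isCoh_structureModule X)) 1
  have hS := shortExact_pairSeq hO hU hd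
  haveI : Module.Finite k (HA φ (pairSeq hO hU).X₂ (⊤ : X.Opens) 1) := finite_HA k _ (isCoh_NT hO A) 1
  haveI : Module.Finite k (HA φ (pairSeq hO hU).X₃ (⊤ : X.Opens) 1) :=
    finite_HA k _ (isCoh_push_red B (isCoh_structureModule X)) 1
  let f := postA φ (kernel.ι (resT A (Coh.structureModule X))) (⊤ : X.Opens) 1
  let q := postA φ (pairSeq hO hU).g (⊤ : X.Opens) 1
  have hmap : (LinearMap.ker q).map f ≤ K1 k U := by
    rintro _ ⟨x, hx, rfl⟩
    obtain ⟨y, rfl⟩ := (exact_postA φ hS ⊤ 1 x).1 hx
    refine ⟨y, ?_⟩
    show _ = postA φ (kernel.ι (resT A (Coh.structureModule X))) ⊤ 1 (postA φ (pairSeq hO hU).f ⊤ 1 y)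
    exact (congrArg (fun θ => postA φ θ (⊤ : X.Opens) 1 y) (incl_ι hO (subset_of_eq_union hU).1).symm).trans
      (postHM_comp (incl hO (subset_of_eq_union hU).1) _ 1 (⊤ : X.Opens) y)
  have h1 := LinearMap.finrank_range_add_finrank_ker f
  have h2 := LinearMap.finrank_range_add_finrank_ker q
  have h3 := LinearMap.finrank_range_add_finrank_ker (f.domRestrict (LinearMap.ker q))
  have h4 : Module.finrank k (LinearMap.ker (f.domRestrict (LinearMap.ker q))) ≤
      Module.finrank k (LinearMap.ker f) :=
    LinearMap.finrank_le_finrank_of_injective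
      (f := (LinearMap.ker q).subtype.restrict (p := LinearMap.ker (f.domRestrict (LinearMap.ker q)))
        (q := LinearMap.ker f) fun x hx => hx)
      fun a b hab => Subtype.ext (Subtype.ext (congrArg Subtype.val hab :))
  have h5 : Module.finrank k (LinearMap.range (f.domRestrict (LinearMap.ker q))) ≤ Module.finrank k (K1 k U) := by
    refine Submodule.finrank_mono (le_trans ?_ hmap)
    rintro _ ⟨x, rfl⟩
    exact ⟨x.1, x.2, rfl⟩
  have h6 : Module.finrank k (LinearMap.range q) ≤ @Curv2.genus k _ (red B).subscheme (redOver k B) := by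
    refine (Submodule.finrank_le _).trans (le_of_eq ?_)
    obtain ⟨e⟩ := exists_pullStructureIso (X := X) (red B).subschemeι
    show Module.finrank k (HA φ ((Coh.push (red B).subschemeι).obj _) (⊤ : X.Opens) 1) = _
    rw [← (HHBaseEquiv k _ 1).finrank_eq,
      ← (SerreDual.hpush (red B).subschemeι k rfl
        ((Scheme.Modules.pullback (red B).subschemeι).obj (Coh.structureModule X)) 1).finrank_eq,
      CurveRR24.finrank_HH_congr k e 1]
    rfl
  have h2' : Module.finrank k (LinearMap.range q) + Module.finrank k (LinearMap.ker q) =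
      Module.finrank k (HA φ (kernel (resT A (Coh.structureModule X))) (⊤ : X.Opens) 1) := h2
  have key : ∀ {r z N rq zq r₃ z₃ K g : ℕ}, r + z = N → rq + zq = N → r₃ + z₃ = zq → z₃ ≤ z → r₃ ≤ K →
      rq ≤ g → r ≤ K + g := by intros; omega
  exact key h1 h2' h3 h4 h5 h6

theorem finrank_K1_union [IsReduced X] (hdim : topologicalKrullDim X ≤ 1) {U W T : Closeds X}
    (hT : (T : Set X) = (U : Set X) ∪ W)
    (hη : ∀ (D : Closeds X), (D : Set X) ∈ irreducibleComponents X → ∀ η, IsGenericPoint η (D : Set X) →
      η ∉ (U : Set X) ∩ W) :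
    Module.finrank k (HA (baseHom k X) (Coh.structureModule X) (⊤ : X.Opens) 1) + Module.finrank k (K1 k T) ≤
      Module.finrank k (K1 k U) + Module.finrank k (K1 k W) := by
  haveI := EulerLib.isNoetherian_of_proper k (X := X)
  have hO : PicF.IsInvertible (Coh.structureModule X) := isInvertible_structureModule
  haveI := finite_HA k _ (isCoh_structureModule X) 1
  have htop : K1 k U ⊔ K1 k W = ⊤ := by
    refine range_sup_eq_top k hdim (isCoh_NT hO U).1 (isCoh_NT hO W).1 (isCoh_structureModule X).1 _ _
      ⟨((U : Set X) ∩ W)ᶜ, (U.isClosed.inter W.isClosed).isOpen_compl⟩ hη fun V w y hyV hy => ?_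
    by_cases hyU : y ∈ U
    · have hyW : y ∉ W := fun h => hy ⟨hyU, h⟩
      let V' : X.Opens := V ⊓ ⟨(W : Set X)ᶜ, W.isClosed.isOpen_compl⟩
      obtain ⟨b, hb⟩ := exists_app_ι_eq hO W (V := V') (w := resM _ inf_le_left w)
        (van_of_disjoint _ (Set.disjoint_left.2 fun z hz hzW => hzW.2 hz))
      exact ⟨V', inf_le_left, 0, b, ⟨hyV, hyW⟩, by rw [map_zero, zero_add]; exact hb.symm⟩
    · let V' : X.Opens := V ⊓ ⟨(U : Set X)ᶜ, U.isClosed.isOpen_compl⟩
      obtain ⟨a, ha⟩ := exists_app_ι_eq hO U (V := V') (w := resM _ inf_le_left w)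
        (van_of_disjoint _ (Set.disjoint_left.2 fun z hz hzW => hzW.2 hz))
      exact ⟨V', inf_le_left, a, 0, ⟨hyV, hyU⟩, by rw [map_zero, add_zero]; exact ha.symm⟩
  have hmono : ∀ {A B : Closeds X}, (A : Set X) ⊆ B → K1 k B ≤ K1 k A := fun {A B} h => by
    rintro _ ⟨y, rfl⟩
    refine ⟨postA _ (incl hO h) ⊤ 1 y, ?_⟩
    exact (postHM_comp _ _ 1 (⊤ : X.Opens) y).symm.trans
      (congrArg (fun θ => postA (baseHom k X) θ (⊤ : X.Opens) 1 y) (incl_ι hO h))
  have h1 : K1 k T ≤ K1 k U ⊓ K1 k W :=
    le_inf (hmono (hT ▸ Set.subset_union_left)) (hmono (hT ▸ Set.subset_union_right))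
  have h2 := Submodule.finrank_sup_add_finrank_inf_eq (K1 k U) (K1 k W)
  rw [htop, finrank_top] at h2
  have h3 := Submodule.finrank_mono h1
  omega

include k in
theorem one_le_dim_component [ConnectedSpace X] (hdim : topologicalKrullDim X = 1) {C : Closeds X}
    (hC : (C : Set X) ∈ irreducibleComponents X) : (1 : WithBot ℕ∞) ≤ topologicalKrullDim (C : Set X) := by
  haveI := EulerLib.isNoetherian_of_proper k (X := X)
  obtain ⟨η, hηC, hη⟩ := exists_genericPoint hC
  obtain ⟨x, hxC, hxη⟩ : ∃ x ∈ C, x ≠ η := by
    by_contra h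
    push Not at h
    have hCη : (C : Set X) = {η} := Set.Subset.antisymm (fun x hx => h x hx) (Set.singleton_subset_iff.2 hηC)
    have hint := mem_interior_of_subset hC hη (subset_refl (C : Set X))
    have hopen : IsOpen ({η} : Set X) := by
      have : interior (C : Set X) = {η} := Set.Subset.antisymm (hCη ▸ interior_subset)
        (Set.singleton_subset_iff.2 hint)
      exact this ▸ isOpen_interior
    have hu : ({η} : Set X) = Set.univ :=
      IsClopen.eq_univ ⟨hCη ▸ C.isClosed, hopen⟩ (Set.singleton_nonempty η)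
    haveI : Subsingleton X := ⟨fun a b => ((hu.ge (Set.mem_univ a)).trans (hu.ge (Set.mem_univ b)).symm :)⟩
    haveI : IrreducibleSpace X :=
      { toPreirreducibleSpace := ⟨(Set.subsingleton_univ).isPreirreducible⟩, toNonempty := ⟨η⟩ }
    have : topologicalKrullDim X ≤ 0 := topologicalKrullDim_zero_of_discreteTopology X
    rw [hdim] at this
    exact absurd this (by decide)
  let a : IrreducibleCloseds (C : Set X) :=
    ⟨closure {(⟨x, hxC⟩ : (C : Set X))}, isIrreducible_singleton.closure, isClosed_closure⟩
  let b : IrreducibleCloseds (C : Set X) :=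
    ⟨Set.univ, by
      haveI : IrreducibleSpace (C : Set X) := Subtype.irreducibleSpace hC.1
      exact IrreducibleSpace.isIrreducible_univ _, isClosed_univ⟩
  have hab : a < b := lt_of_le_of_ne (fun _ _ => trivial) fun e => by
    have h' : (⟨η, hηC⟩ : (C : Set X)) ∈ (a : Set (C : Set X)) := by rw [e]; trivial
    have h2 : η ∈ closure ({x} : Set X) := by
      have := image_closure_subset_closure_image continuous_subtype_val ⟨_, h', rfl⟩
      rwa [Set.image_singleton] at this
    exact hxη ((specializes_iff_mem_closure.2 h2).antisymm (hη.specializes hxC)).eq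
  exact le_trans (le_of_eq rfl) (Order.LTSeries.length_le_krullDim ((RelSeries.singleton _ a).snoc b hab))

theorem genus_lt_euler [IsReduced X] [ConnectedSpace X] (hdim : topologicalKrullDim X = 1)
    (hL : PicF.IsInvertible L)
    (h : ∀ J : X.IdealSheafData, IsReduced J.subscheme → ConnectedSpace J.subscheme →
      topologicalKrullDim J.subscheme = 1 →
      2 * (@Curv2.genus k _ J.subscheme ⟨J.subschemeι ≫ (X ↘ (Spec (CommRingCat.of k)))⟩ : ℤ) ≤
        @Curv2.deg k _ J.subscheme ⟨J.subschemeι ≫ (X ↘ (Spec (CommRingCat.of k)))⟩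
          ((Scheme.Modules.pullback J.subschemeι).obj L) 1) :
    ∀ (n : ℕ) (S : Finset (Closeds X)), S.card = n → S.Nonempty →
      (∀ C ∈ S, (C : Set X) ∈ irreducibleComponents X) →
      (@Curv2.genus k _ (red (unionC S)).subscheme (redOver k (unionC S)) : ℤ) <
        @Curv2.euler k _ (red (unionC S)).subscheme (redOver k (unionC S))
          ((Scheme.Modules.pullback (red (unionC S)).subschemeι).obj L) := by
  classical
  haveI := EulerLib.isNoetherian_of_proper k (X := X)
  haveI : X.IsSeparated := ⟨by rw [← terminal.comp_from (X ↘ Spec (CommRingCat.of k))]; infer_instance⟩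
  intro n
  induction n using Nat.strong_induction_on with
  | h n ih =>
    intro S hn hne hS
    let U := unionC S
    by_cases hconn : _root_.IsPreconnected (U : Set X)
    · let _ := redOver k U
      haveI : IsProper ((red U).subscheme ↘ Spec (CommRingCat.of k)) :=
        inferInstanceAs (IsProper ((red U).subschemeι ≫ (X ↘ Spec (CommRingCat.of k))))
      haveI : IsLocallyNoetherian (red U).subscheme := LocallyOfFiniteType.isLocallyNoetherian (red U).subschemeι
      haveI hred : IsReduced (red U).subscheme := Props12.isReduced_subscheme_vanishingIdeal U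
      obtain ⟨C, hCS⟩ := hne
      obtain ⟨η, hηC, -⟩ := exists_genericPoint (hS C hCS)
      have hne' : (U : Set X).Nonempty := ⟨η, subset_unionC hCS hηC⟩
      haveI hcs : ConnectedSpace (red U).subscheme := by
        haveI := Subtype.connectedSpace (s := (U : Set X)) ⟨hne', hconn⟩
        exact ((red U).subschemeι.isEmbedding.toHomeomorph.trans
          (Homeomorph.setCongr (range_red U))).symm.surjective.connectedSpace
            ((red U).subschemeι.isEmbedding.toHomeomorph.trans (Homeomorph.setCongr (range_red U))).symm.continuous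
      have hd : topologicalKrullDim (red U).subscheme = 1 := by
        rw [VarietyLib.topologicalKrullDim_vanishingIdeal]
        refine le_antisymm (Topology.IsInducing.subtypeVal.topologicalKrullDim_le.trans hdim.le) ?_
        exact (one_le_dim_component k hdim (hS C hCS)).trans (dim_mono (subset_unionC hCS))
      have hdeg := h (red U) hred hcs hd
      have hstr := CurveRR24.euler_structure k hd.le
      have hh0 : 0 < Module.finrank k (Coh.HH (red U).subscheme (Coh.structureModule (red U).subscheme) 0) := by
        haveI := CurveRR24.finite_HH_of_isCoh k (isCoh_structureModule (red U).subscheme) 0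
        haveI : Nonempty (⊤ : (red U).subscheme.Opens) :=
          ⟨⟨Classical.choice (inferInstance : Nonempty (red U).subscheme), trivial⟩⟩
        haveI : Nontrivial (Coh.HH (red U).subscheme (Coh.structureModule (red U).subscheme) 0) :=
          (CurveRR24.hhZero k (Coh.structureModule (red U).subscheme)).toEquiv.nontrivial_congr.2
            (inferInstanceAs (Nontrivial Γ((red U).subscheme, ⊤)))
        exact Module.finrank_pos
      unfold Curv2.deg at hdeg
      rw [hstr] at hdeg
      push_cast at hdeg
      simp only [U] at *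
      omega
    · rw [isPreconnected_closed_iff] at hconn
      push Not at hconn
      obtain ⟨a, b, ha, hb, hcov, ⟨xa, hxa⟩, ⟨xb, hxb⟩, hab⟩ := hconn
      let A' : Closeds X := ⟨(U : Set X) ∩ a, U.isClosed.inter ha⟩
      let B' : Closeds X := ⟨(U : Set X) ∩ b, U.isClosed.inter hb⟩
      have hsplit : ∀ C ∈ S, (C : Set X) ⊆ a ∧ ¬ (C : Set X) ⊆ b ∨ (C : Set X) ⊆ b ∧ ¬ (C : Set X) ⊆ a := by
        intro C hC
        have hCU : (C : Set X) ⊆ U := subset_unionC hC
        obtain ⟨η, hηC, hη⟩ := exists_genericPoint (hS C hC)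
        have hcl : ∀ t : Set X, IsClosed t → η ∈ t → (C : Set X) ⊆ t := fun t ht hηt =>
          hη.def ▸ ht.closure_subset_iff.2 (Set.singleton_subset_iff.2 hηt)
        have hnab : ¬ (η ∈ a ∧ η ∈ b) := fun hh => Set.eq_empty_iff_forall_notMem.1 hab η ⟨hCU hηC, hh.1, hh.2⟩
        rcases hcov (hCU hηC) with h1 | h1
        · exact Or.inl ⟨hcl a ha h1, fun h2 => hnab ⟨h1, h2 hηC⟩⟩
        · exact Or.inr ⟨hcl b hb h1, fun h2 => hnab ⟨h2 hηC, h1⟩⟩
      let SA := S.filter fun C : Closeds X => (C : Set X) ⊆ a
      let SB := S.filter fun C : Closeds X => (C : Set X) ⊆ b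
      have hAmem : ∀ x ∈ U, x ∈ a → x ∈ unionC SA := fun x hxU hxa' => by
        obtain ⟨C, hC, hxC⟩ := mem_unionC.1 hxU
        rcases hsplit C hC with h1 | h1
        · exact mem_unionC.2 ⟨C, Finset.mem_filter.2 ⟨hC, h1.1⟩, hxC⟩
        · exact absurd ⟨hxU, hxa', h1.1 hxC⟩ (Set.eq_empty_iff_forall_notMem.1 hab x)
      have hBmem : ∀ x ∈ U, x ∈ b → x ∈ unionC SB := fun x hxU hxb' => by
        obtain ⟨C, hC, hxC⟩ := mem_unionC.1 hxU
        rcases hsplit C hC with h1 | h1
        · exact absurd ⟨hxU, h1.1 hxC, hxb'⟩ (Set.eq_empty_iff_forall_notMem.1 hab x)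
        · exact mem_unionC.2 ⟨C, Finset.mem_filter.2 ⟨hC, h1.1⟩, hxC⟩
      obtain ⟨CA, hCA, -⟩ := mem_unionC.1 (hAmem xa hxa.1 hxa.2)
      obtain ⟨CB, hCB, -⟩ := mem_unionC.1 (hBmem xb hxb.1 hxb.2)
      have hdis : Disjoint (unionC SA : Set X) (unionC SB) := Set.disjoint_left.2 fun x hxA hxB => by
        obtain ⟨C, hC, hxC⟩ := mem_unionC.1 hxA
        obtain ⟨D, hD, hxD⟩ := mem_unionC.1 hxB
        obtain ⟨hCS, hCa⟩ := Finset.mem_filter.1 hC
        obtain ⟨-, hDb⟩ := Finset.mem_filter.1 hD
        exact Set.eq_empty_iff_forall_notMem.1 hab x ⟨subset_unionC hCS hxC, hCa hxC, hDb hxD⟩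
      have hUeq : (U : Set X) = (unionC SA : Set X) ∪ unionC SB :=
        Set.Subset.antisymm (fun x hx => (hcov hx).imp (hAmem x hx) (hBmem x hx))
          (Set.union_subset (unionC_mono (Finset.filter_subset _ _)) (unionC_mono (Finset.filter_subset _ _)))
      have hlt : ∀ (T : Finset (Closeds X)) (C : Closeds X), T ⊆ S → C ∈ S → C ∉ T → T.card < n :=
        fun T C hT hC hCT => hn ▸ Finset.card_lt_card ⟨hT, fun hle => hCT (hle hC)⟩
      have hCA' : CA ∉ SB := fun hh => by
        obtain ⟨hm, hb'⟩ := Finset.mem_filter.1 hh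
        rcases hsplit CA hm with h1 | h1
        · exact h1.2 hb'
        · exact h1.2 (Finset.mem_filter.1 hCA).2
      have hCB' : CB ∉ SA := fun hh => by
        obtain ⟨hm, ha'⟩ := Finset.mem_filter.1 hh
        rcases hsplit CB hm with h1 | h1
        · exact h1.2 (Finset.mem_filter.1 hCB).2
        · exact h1.2 ha'
      have hA := ih SA.card (hlt SA CB (Finset.filter_subset _ _) (Finset.filter_subset _ _ hCB) hCB') SA rfl ⟨CA, hCA⟩
        fun C hC => hS C (Finset.filter_subset _ _ hC)
      have hB := ih SB.card (hlt SB CA (Finset.filter_subset _ _) (Finset.filter_subset _ _ hCA) hCA') SB rfl ⟨CB, hCB⟩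
        fun C hC => hS C (Finset.filter_subset _ _ hC)
      have h1 := finrank_K1_le k hdim.le hUeq hdis
      have h2 := finrank_K1_add_genus k hdim.le U
      have h3 := finrank_K1_add_genus k hdim.le (unionC SA)
      have h4 := euler_pair k hL hUeq hdis
      have h5 := euler_red k hL U
      have h6 := euler_red k hL (unionC SA)
      simp only [U] at *
      omega

/-- Global generation from the degrees on reduced connected subcurves. -/
theorem gl_of_deg_subcurves [IsReduced X] [ConnectedSpace X] (hdim : topologicalKrullDim X = 1)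
    (hL : PicF.IsInvertible L)
    (h : ∀ J : X.IdealSheafData, IsReduced J.subscheme → ConnectedSpace J.subscheme →
      topologicalKrullDim J.subscheme = 1 →
      2 * (@Curv2.genus k _ J.subscheme ⟨J.subschemeι ≫ (X ↘ (Spec (CommRingCat.of k)))⟩ : ℤ) ≤
        @Curv2.deg k _ J.subscheme ⟨J.subschemeι ≫ (X ↘ (Spec (CommRingCat.of k)))⟩
          ((Scheme.Modules.pullback J.subschemeι).obj L) 1) :
    Lipman24.Gl L := by
  classical
  haveI := EulerLib.isNoetherian_of_proper k (X := X)
  haveI : X.IsSeparated := ⟨by rw [← terminal.comp_from (X ↘ Spec (CommRingCat.of k))]; infer_instance⟩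
  let φ := baseHom k X
  haveI : Module.Finite k (GA φ L) :=
    haveI := finite_HA k L (PicLib.isCoh_of_isInvertible hL) 0
    Module.Finite.equiv (secA φ L)
  let H := Module.finrank k (HA φ (Coh.structureModule X) (⊤ : X.Opens) 1)
  have hmonoVs : ∀ {A B : Closeds X}, (A : Set X) ⊆ B → Vs k B L ≤ Vs k A L := fun {A B} hAB s hs =>
    (mem_Vs_iff hL s).2 (((mem_Vs_iff hL s).1 hs).mono hAB)
  -- no nonempty union of components has few sections
  have main : ∀ (n : ℕ) (S : Finset (Closeds X)), (finite_components (X := X)).toFinset.card ≤ S.card + n →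
      S.Nonempty → (∀ C ∈ S, (C : Set X) ∈ irreducibleComponents X) →
      Module.finrank k (GA φ L) + Module.finrank k (K1 k (unionC S)) ≤
        Module.finrank k (Vs k (unionC S) L) + H → False := by
    intro n
    induction n with
    | zero =>
      intro S hcard hne hS hineq
      have hall : S = (finite_components (X := X)).toFinset := Finset.eq_of_subset_of_card_le
        (fun C hC => (finite_components (X := X)).mem_toFinset.2 (hS C hC)) (by simpa using hcard)
      have hz : IsZero (NT (unionC S) L) := isZero_NT_of_univ hL (Set.eq_univ_of_forall fun x => by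
        obtain ⟨C, hC, hxC⟩ := exists_component x
        exact mem_unionC.2 ⟨C, hall ▸ (finite_components (X := X)).mem_toFinset.2 hC, hxC⟩)
      have hsub : Subsingleton (HA φ (NT (unionC S) L) (⊤ : X.Opens) 1) :=
        (HHTopEquiv _ 1).symm.toEquiv.subsingleton_congr.2 (subsingleton_HH_of_isZero hz 1)
      have h1 := finrank_Vs_add_h0 k hL (unionC S) hsub
      have h2 := finrank_K1_add_genus k hdim.le (unionC S)
      have h3 := genus_lt_euler k hdim hL h _ S rfl hne hS
      let _ := redOver k (unionC S)
      haveI : IsProper ((red (unionC S)).subscheme ↘ Spec (CommRingCat.of k)) :=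
        inferInstanceAs (IsProper ((red (unionC S)).subschemeι ≫ (X ↘ Spec (CommRingCat.of k))))
      have h4 := CurveRR24.euler_eq_h0_sub_h1 k
        (((red (unionC S)).subschemeι.isClosedEmbedding.isInducing.topologicalKrullDim_le).trans hdim.le)
        ((Scheme.Modules.pullback (red (unionC S)).subschemeι).obj L)
        (isQCoh_of_isInvertible (PicLoc.isInvertible_pullback _ hL))
      simp only [φ, H] at *
      omega
    | succ n ih =>
      intro S hcard hne hS hineq
      by_cases hsub : Subsingleton (HA φ (NT (unionC S) L) (⊤ : X.Opens) 1)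
      · have h1 := finrank_Vs_add_h0 k hL (unionC S) hsub
        have h2 := finrank_K1_add_genus k hdim.le (unionC S)
        have h3 := genus_lt_euler k hdim hL h _ S rfl hne hS
        let _ := redOver k (unionC S)
        haveI : IsProper ((red (unionC S)).subscheme ↘ Spec (CommRingCat.of k)) :=
          inferInstanceAs (IsProper ((red (unionC S)).subschemeι ≫ (X ↘ Spec (CommRingCat.of k))))
        have h4 := CurveRR24.euler_eq_h0_sub_h1 k
          (((red (unionC S)).subschemeι.isClosedEmbedding.isInducing.topologicalKrullDim_le).trans hdim.le)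
          ((Scheme.Modules.pullback (red (unionC S)).subschemeι).obj L)
          (isQCoh_of_isInvertible (PicLoc.isInvertible_pullback _ hL))
        simp only [φ, H] at *
        omega
      · obtain ⟨S', hne', hS', hstep⟩ := exists_step k hdim.le hL (unionC S) (not_subsingleton_iff_nontrivial.1 hsub)
        have hun : unionC (S ∪ S') = unionC S ⊔ unionC S' := Finset.sup_union
        have hK := finrank_K1_union k hdim.le (U := unionC S) (W := unionC S') (T := unionC (S ∪ S'))
          (by rw [hun]; rfl) fun D hD η hη hmem => by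
            obtain ⟨C, hC, hηC⟩ := mem_unionC.1 hmem.2
            obtain rfl := eq_of_genericPoint_mem hD (hS' C hC).1 hη hηC
            exact (hS' D hC).2 (hη.def ▸ (unionC S).isClosed.closure_subset_iff.2
              (Set.singleton_subset_iff.2 hmem.1))
        obtain ⟨C, hC⟩ := hne'
        have hCS : C ∉ S := fun hh => (hS' C hC).2 (subset_unionC hh)
        refine ih (S ∪ S') ?_ (hne.mono Finset.subset_union_left) (fun D hD => ?_) ?_
        · have : S.card < (S ∪ S').card := Finset.card_lt_card
            ⟨Finset.subset_union_left, fun hle => hCS (hle (Finset.mem_union_right _ hC))⟩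
          omega
        · exact (Finset.mem_union.1 hD).elim (hS D) fun hh => (hS' D hh).1
        · rw [← hun] at hstep
          omega
  refine Lipman24.Gl.of_closedPoints fun P hP => ?_
  by_contra hno
  push Not at hno
  let TP : Closeds X := ⟨{P}, hP⟩
  have hVs : Vs k TP L = ⊤ := eq_top_iff.2 fun s _ => (mem_Vs_iff hL s).2
    ((van_iff_disjoint_glocus hL _).2 (Set.disjoint_singleton_left.2 (hno _)))
  have hnt : Nontrivial (HA φ (NT TP L) (⊤ : X.Opens) 1) := by
    refine not_subsingleton_iff_nontrivial.1 fun hsub => ?_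
    have hsurj := Lipman24.surjective_pullSec_of_H1 (red TP).subschemeι (L := L)
      ((HHTopEquiv (NT TP L) 1).toEquiv.subsingleton_congr.2 hsub)
    haveI : Subsingleton (red TP).subscheme := ⟨fun a b => (red TP).subschemeι.isEmbedding.injective <| by
      have h1 : (red TP).subschemeι a ∈ ({P} : Set X) := (range_red TP).subset ⟨a, rfl⟩
      have h2 : (red TP).subschemeι b ∈ ({P} : Set X) := (range_red TP).subset ⟨b, rfl⟩
      exact (show _ = P from h1).trans (show _ = P from h2).symm⟩
    obtain ⟨z, hz⟩ := (range_red TP).superset (show P ∈ ({P} : Set X) from rfl)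
    obtain ⟨s, hs⟩ := Lipman24.exists_mem_glocus_of_pullback (red TP).subschemeι hL hsurj
      (Lipman24.gl_of_subsingleton (PicLoc.isInvertible_pullback _ hL)) z
    exact hno s (hz ▸ hs)
  obtain ⟨S, hne, hS, hstep⟩ := exists_step k hdim.le hL TP hnt
  refine main (finite_components (X := X)).toFinset.card S (Nat.le_add_left _ _) hne (fun C hC => (hS C hC).1) ?_
  rw [hVs, finrank_top] at hstep
  have := Submodule.finrank_mono (hmonoVs (show ((unionC S : Closeds X) : Set X) ⊆ (TP ⊔ unionC S : Closeds X) from
    fun x hx => Or.inr hx))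
  simp only [φ, H] at *
  omega

end Groth.Agent.Subcurves24
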