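import Groth.Agent.Clifford24.Subcurves.Vanish
import Groth.Agent.CurveRR24.Vanish
import Groth.Agent.CurveRR24.Section

/-!
# The key inequality for a functional on `H¹` of sections vanishing on a closed set
-/

set_option autoImplicit false
set_option linter.style.haveILetI false
set_option backward.isDefEq.respectTransparency.types false

universe u

open CategoryTheory CategoryTheory.Limits AlgebraicGeometry Opposite TopologicalSpace
open Groth.Agent.Coherent Groth.Agent.PicLib Groth.Agent.AmpleLib Groth.Agent.EulerLib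
open Groth.Agent.CurveRR24 (unitDesc_app hom_ext_one)

namespace Groth.Agent.Subcurves24

variable {X : Scheme.{u}} {L : X.Modules}

theorem exists_component (x : X) :
    ∃ C : Closeds X, (C : Set X) ∈ irreducibleComponents X ∧ x ∈ C :=
  ⟨⟨irreducibleComponent x, isClosed_irreducibleComponent⟩, irreducibleComponent_mem_irreducibleComponents x,
    mem_irreducibleComponent⟩

theorem exists_genericPoint {C : Closeds X} (hC : (C : Set X) ∈ irreducibleComponents X) :
    ∃ η, η ∈ C ∧ IsGenericPoint η (C : Set X) :=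
  ⟨_, (IsIrreducible.isGenericPoint_genericPoint hC.1 C.isClosed).mem,
    IsIrreducible.isGenericPoint_genericPoint hC.1 C.isClosed⟩

/-- The union of a family of closed sets. -/
noncomputable def unionC (S : Finset (Closeds X)) : Closeds X := S.sup id

theorem mem_unionC {S : Finset (Closeds X)} {x : X} : x ∈ unionC S ↔ ∃ C ∈ S, x ∈ C := by
  classical
  induction S using Finset.induction with
  | empty => exact ⟨fun h => h.elim, fun ⟨C, hC, _⟩ => absurd hC (Finset.notMem_empty C)⟩
  | @insert a S _ ih =>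
    rw [unionC, Finset.sup_insert]
    change x ∈ (a : Set X) ∪ (unionC S : Set X) ↔ _
    constructor
    · rintro (h | h)
      · exact ⟨a, Finset.mem_insert_self a S, h⟩
      · obtain ⟨C, hC, h⟩ := ih.1 h
        exact ⟨C, Finset.mem_insert_of_mem hC, h⟩
    · rintro ⟨C, hC, h⟩
      rcases Finset.mem_insert.1 hC with rfl | hC
      · exact Or.inl h
      · exact Or.inr (ih.2 ⟨C, hC, h⟩)

theorem unionC_mono {S S' : Finset (Closeds X)} (h : S ⊆ S') : (unionC S : Set X) ⊆ unionC S' :=
  fun _ hx => by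
    obtain ⟨C, hC, hxC⟩ := mem_unionC.1 hx
    exact mem_unionC.2 ⟨C, h hC, hxC⟩

theorem subset_unionC {S : Finset (Closeds X)} {C : Closeds X} (h : C ∈ S) : (C : Set X) ⊆ unionC S :=
  fun _ hx => mem_unionC.2 ⟨C, h, hx⟩

theorem eq_of_genericPoint_mem {C C' : Closeds X} (hC : (C : Set X) ∈ irreducibleComponents X)
    (hC' : (C' : Set X) ∈ irreducibleComponents X) {η : X} (hη : IsGenericPoint η (C : Set X))
    (h : η ∈ C') : C = C' := by
  have hle : (C : Set X) ⊆ C' := hη.def ▸ C'.isClosed.closure_subset_iff.2 (Set.singleton_subset_iff.2 h)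
  exact SetLike.coe_injective (hle.antisymm (hC.2 hC'.1 hle))

theorem finite_components [IsNoetherian X] :
    {C : Closeds X | (C : Set X) ∈ irreducibleComponents X}.Finite :=
  (NoetherianSpace.finite_irreducibleComponents (α := X)).preimage SetLike.coe_injective.injOn

theorem mem_interior_of_subset [IsNoetherian X] {C : Closeds X} (hC : (C : Set X) ∈ irreducibleComponents X)
    {η : X} (hη : IsGenericPoint η (C : Set X)) {T : Set X} (h : (C : Set X) ⊆ T) : η ∈ interior T := by
  classical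
  let S := (finite_components (X := X)).toFinset.erase C
  refine mem_interior.2 ⟨(unionC S : Set X)ᶜ, fun x hx => ?_, (unionC S).isClosed.isOpen_compl, fun hmem => ?_⟩
  · obtain ⟨C', hC', hxC'⟩ := exists_component x
    by_cases he : C' = C
    · exact h (he ▸ hxC')
    · exact absurd (mem_unionC.2 ⟨C', Finset.mem_erase.2 ⟨he, (finite_components (X := X)).mem_toFinset.2 hC'⟩, hxC'⟩) hx
  · obtain ⟨C', hC', hmem⟩ := mem_unionC.1 hmem
    obtain ⟨hne, hC'⟩ := Finset.mem_erase.1 hC'
    exact hne (eq_of_genericPoint_mem hC ((finite_components (X := X)).mem_toFinset.1 hC') hη hmem).symm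

/-- A closed set without generic points is small. -/
theorem dim_lt_one_of_noGeneric [IsNoetherian X] (hdim : topologicalKrullDim X ≤ 1) {D : Set X}
    (hD : IsClosed D)
    (hη : ∀ (C : Closeds X), (C : Set X) ∈ irreducibleComponents X → ∀ η, IsGenericPoint η (C : Set X) → η ∉ D) :
    topologicalKrullDim D < ((1 : ℕ) : WithBot ℕ∞) := by
  have hcl : ∀ ζ ∈ D, IsClosed ({ζ} : Set X) := fun ζ hζ => by
    by_contra hnc
    obtain ⟨C, hC, hζC⟩ := exists_component ζ
    obtain ⟨η, -, hη'⟩ := exists_genericPoint hC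
    obtain ⟨z, hz, hne⟩ : ∃ z ∈ closure ({ζ} : Set X), z ≠ ζ := by
      by_contra hh
      push Not at hh
      exact hnc (closure_eq_iff_isClosed.1 (Set.Subset.antisymm (fun z hz => hh z hz) subset_closure))
    let a : IrreducibleCloseds X := ⟨closure {z}, isIrreducible_singleton.closure, isClosed_closure⟩
    let b : IrreducibleCloseds X := ⟨closure {ζ}, isIrreducible_singleton.closure, isClosed_closure⟩
    let c : IrreducibleCloseds X := ⟨(C : Set X), hC.1, C.isClosed⟩
    have hab : a < b := lt_of_le_of_ne (closure_minimal (Set.singleton_subset_iff.2 hz) isClosed_closure)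
      fun e => hne ((specializes_iff_mem_closure.2 (show ζ ∈ closure ({z} : Set X) by
        have h' : ζ ∈ (a : Set X) := by rw [e]; exact subset_closure rfl
        exact h')).antisymm (specializes_iff_mem_closure.2 hz)).eq
    have hbc : b < c := lt_of_le_of_ne (closure_minimal (Set.singleton_subset_iff.2 hζC) C.isClosed)
      fun e => hη C hC ζ (show IsGenericPoint ζ (C : Set X) from congrArg SetLike.coe e) hζ
    let p : LTSeries (IrreducibleCloseds X) := ((RelSeries.singleton _ a).snoc b hab).snoc c (by simpa using hbc)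
    have h2 : ((2 : ℕ) : WithBot ℕ∞) ≤ topologicalKrullDim X := Order.LTSeries.length_le_krullDim p
    exact absurd (h2.trans hdim) (by decide)
  refine lt_of_le_of_lt ?_ (show ((0 : ℕ) : WithBot ℕ∞) < ((1 : ℕ) : WithBot ℕ∞) by exact_mod_cast Nat.zero_lt_one)
  show Order.krullDim (IrreducibleCloseds D) ≤ ((0 : ℕ) : WithBot ℕ∞)
  refine iSup_le fun p => ?_
  rcases Nat.eq_zero_or_pos p.length with hp | hp
  · rw [hp]
  exfalso
  have hlt := p.strictMono (show (⟨0, by omega⟩ : Fin (p.length + 1)) < ⟨1, by omega⟩ from Nat.zero_lt_one)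
  let b := p ⟨1, by omega⟩
  have hirr : IsIrreducible (Subtype.val '' (b : Set D)) :=
    b.isIrreducible'.image _ continuous_subtype_val.continuousOn
  have hbc : IsClosed (Subtype.val '' (b : Set D)) := hD.isClosedEmbedding_subtypeVal.isClosedMap _ b.isClosed'
  obtain ⟨ζ, hζ⟩ : ∃ ζ, IsGenericPoint ζ (Subtype.val '' (b : Set D)) :=
    ⟨_, hirr.isGenericPoint_genericPoint hbc⟩
  obtain ⟨⟨ζ', hζD⟩, hζb, rfl⟩ := hζ.mem
  have hone : Subtype.val '' (b : Set D) = {ζ'} := hζ.def.symm.trans (hcl ζ' hζD).closure_eq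
  obtain ⟨d, hd⟩ := (p ⟨0, by omega⟩).isIrreducible'.1
  refine hlt.ne (SetLike.coe_injective (Set.Subset.antisymm hlt.le fun e he => ?_))
  have h1 : (e : X) ∈ ({ζ'} : Set X) := hone ▸ ⟨e, he, rfl⟩
  have h2 : (d : X) ∈ ({ζ'} : Set X) := hone ▸ ⟨d, hlt.le hd, rfl⟩
  exact (Subtype.ext (h2.trans h1.symm) : d = e) ▸ hd

variable (k : Type u) [Field k] [X.Over (Spec (CommRingCat.of k))] [IsProper (X ↘ Spec (CommRingCat.of k))]

/-- Two maps which are jointly surjective on a dense open are jointly surjective on `H¹`. -/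
theorem range_sup_eq_top (hdim : topologicalKrullDim X ≤ 1) {A B C : X.Modules} (hA : Coh.IsQCoh A)
    (hB : Coh.IsQCoh B) (hC : Coh.IsQCoh C) (f : A ⟶ C) (g : B ⟶ C) (Ω : X.Opens)
    (hΩ : ∀ (D : Closeds X), (D : Set X) ∈ irreducibleComponents X → ∀ η, IsGenericPoint η (D : Set X) → η ∈ Ω)
    (hloc : ∀ (V : X.Opens) (w : Γ(C, V)) (y : X), y ∈ V → y ∈ Ω → ∃ (W : X.Opens) (hW : W ≤ V)
      (a : Γ(A, W)) (b : Γ(B, W)), y ∈ W ∧ resM C hW w = f.app W a + g.app W b) :
    LinearMap.range (postA (baseHom k X) f (⊤ : X.Opens) 1) ⊔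
      LinearMap.range (postA (baseHom k X) g (⊤ : X.Opens) 1) = ⊤ := by
  haveI := hA
  haveI := hB
  haveI := hC
  haveI := EulerLib.isNoetherian_of_proper k (X := X)
  haveI : X.IsSeparated := ⟨by rw [← terminal.comp_from (X ↘ Spec (CommRingCat.of k))]; infer_instance⟩
  have hv := Lipman24.noH2_of_dim (X := X) hdim
  let φ := baseHom k X
  let π := cokernel.π f
  haveI hQ : Coh.IsQCoh (cokernel f) := isQCoh_cokernel f
  let g' := g ≫ π
  let π' := cokernel.π g'
  haveI hQ' : Coh.IsQCoh (cokernel g') := isQCoh_cokernel g'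
  have hsupp : CohB1.support (cokernel g') ⊆ (Ω : Set X)ᶜ := by
    intro y hy hyΩ
    refine hy (subsingleton_of_forall_eq 0 fun v => ?_)
    haveI : Epi (π ≫ π') := epi_comp _ _
    obtain ⟨⟨V, hyV⟩, hcover⟩ : ∃ V : {V : X.Opens // y ∈ V}, ∃ w : Γ(C, V.1),
        (cokernel g').presheaf.germ V.1 y V.2 ((π ≫ π').app V.1 w) = v := by
      obtain ⟨V, hyV, q, rfl⟩ := (cokernel g').presheaf.exists_germ_eq v
      obtain ⟨W, hW, hyW, w, hw⟩ := exists_lift_of_epi (π ≫ π') V q y hyV
      refine ⟨⟨W, hyW⟩, w, ?_⟩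
      rw [hw]
      exact TopCat.Presheaf.germ_res_apply _ _ _ _ _
    obtain ⟨w, rfl⟩ := hcover
    obtain ⟨W, hW, a, b, hyW, hab⟩ := hloc V w y hyV hyΩ
    rw [← TopCat.Presheaf.germ_res_apply (cokernel g').presheaf (homOfLE hW) y hyW]
    refine Eq.trans (congrArg _ ?_) (map_zero _)
    show resM (cokernel g') hW ((π ≫ π').app V w) = 0
    rw [← app_resM, hab, map_add]
    have h1 : (f ≫ π ≫ π') = 0 := by rw [← Category.assoc, cokernel.condition, zero_comp]
    have h2 : (g ≫ π ≫ π') = 0 := by rw [← Category.assoc, cokernel.condition]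
    have h1' : (π ≫ π').app W (f.app W a) = 0 := congrArg (fun θ : A ⟶ _ => θ.app W a) h1
    have h2' : (π ≫ π').app W (g.app W b) = 0 := congrArg (fun θ : B ⟶ _ => θ.app W b) h2
    rw [h1', h2', add_zero]
  have hD : topologicalKrullDim ((Ω : Set X)ᶜ : Set X) < ((1 : ℕ) : WithBot ℕ∞) :=
    dim_lt_one_of_noGeneric hdim Ω.2.isClosed_compl fun D hD η hη h => h (hΩ D hD η hη)
  haveI : Subsingleton (HA φ (cokernel g') (⊤ : X.Opens) 1) :=
    (HHTopEquiv _ 1).symm.toEquiv.subsingleton_congr.2
      (subsingleton_HH_of_support (X := X) ⟨(Ω : Set X)ᶜ, Ω.2.isClosed_compl⟩ _ hQ' hsupp 1 hD)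
  have epiSurj : ∀ {F G : X.Modules} [Coh.IsQCoh F] [Coh.IsQCoh G] (p : F ⟶ G) [Epi p],
      Function.Surjective (postA φ p (⊤ : X.Opens) 1) := fun {F G} _ _ p _ x => by
    let S : ShortComplex X.Modules := ShortComplex.mk (kernel.ι p) p (kernel.condition p)
    have hS : S.ShortExact := { exact := ShortComplex.exact_kernel p }
    haveI : Subsingleton (HA φ (kernel p) (⊤ : X.Opens) (1 + 1)) :=
      (HHTopEquiv (kernel p) 2).symm.toEquiv.subsingleton_congr.2 (hv _ (isQCoh_kernel p))
    exact (exact_postA_deltaA φ hS ⊤ 1 x).1 (Subsingleton.elim _ _)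
  refine eq_top_iff.2 fun x _ => ?_
  haveI hK' : Coh.IsQCoh (kernel π') := isQCoh_kernel π'
  let p' : B ⟶ kernel π' := kernel.lift π' g' (cokernel.condition _)
  haveI : Epi p' := (ShortComplex.exact_of_g_is_cokernel (ShortComplex.mk g' π' (cokernel.condition _))
    (cokernelIsCokernel _)).epi_kernelLift
  let S' : ShortComplex X.Modules := ShortComplex.mk (kernel.ι π') π' (kernel.condition π')
  have hS' : S'.ShortExact := { exact := ShortComplex.exact_kernel π' }
  obtain ⟨z, hz⟩ := (exact_postA φ hS' ⊤ 1 (postA φ π ⊤ 1 x)).1 (Subsingleton.elim _ _)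
  obtain ⟨b, rfl⟩ := epiSurj p' z
  have hb : postA φ π ⊤ 1 (postA φ g ⊤ 1 b) = postA φ π ⊤ 1 x := by
    rw [← hz]
    refine (postHM_comp g π 1 (⊤ : X.Opens) b).symm.trans ?_
    show postA φ g' ⊤ 1 b = _
    exact (congrArg (fun θ => postA φ θ (⊤ : X.Opens) 1 b) (kernel.lift_ι π' g' (cokernel.condition _)).symm).trans
      (postHM_comp p' (kernel.ι π') 1 (⊤ : X.Opens) b)
  haveI hK : Coh.IsQCoh (kernel π) := isQCoh_kernel π
  let p : A ⟶ kernel π := kernel.lift π f (cokernel.condition _)
  haveI : Epi p := (ShortComplex.exact_of_g_is_cokernel (ShortComplex.mk f π (cokernel.condition _))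
    (cokernelIsCokernel _)).epi_kernelLift
  let S : ShortComplex X.Modules := ShortComplex.mk (kernel.ι π) π (kernel.condition π)
  have hS : S.ShortExact := { exact := ShortComplex.exact_kernel π }
  obtain ⟨z, hz⟩ := (exact_postA φ hS ⊤ 1 (x - postA φ g ⊤ 1 b)).1 (by rw [map_sub]; exact sub_eq_zero.2 hb.symm)
  obtain ⟨a, rfl⟩ := epiSurj p z
  have ha : postA φ f ⊤ 1 a = x - postA φ g ⊤ 1 b := by
    rw [← hz]
    exact (congrArg (fun θ => postA φ θ (⊤ : X.Opens) 1 a) (kernel.lift_ι π f (cokernel.condition _)).symm).trans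
      (postHM_comp p (kernel.ι π) 1 (⊤ : X.Opens) a)
  rw [← sub_add_cancel x (postA φ g ⊤ 1 b), ← ha]
  exact Submodule.add_mem_sup ⟨a, rfl⟩ ⟨b, rfl⟩

/-- `H¹` classes killed by restriction to the reduced subscheme on `T`. -/
noncomputable abbrev K1 (T : Closeds X) : Submodule k (HA (baseHom k X) (Coh.structureModule X) (⊤ : X.Opens) 1) :=
  LinearMap.range (postA (baseHom k X) (kernel.ι (resT T (Coh.structureModule X))) (⊤ : X.Opens) 1)

/-- Global sections vanishing on `T`. -/
noncomputable abbrev Vs (T : Closeds X) (L : X.Modules) : Submodule k (GA (baseHom k X) L) :=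
  LinearMap.ker (mapGA (baseHom k X) (resT T L))

variable {k}

theorem van_smul_oneSec {T : Set X} {V : X.Opens} (hO : PicF.IsInvertible (Coh.structureModule X))
    {r : Γ(X, V)} (h : Van T (L := Coh.structureModule X) (show Γ(Coh.structureModule X, V) from r))
    (w : Γ(L, V)) : Van T (r • w) := fun W hW g hg y hy hyb => by
  have hc : hg.coef le_rfl (resM L hW (r • w)) =
      (X.presheaf.map (homOfLE hW).op r : Γ(X, W)) * hg.coef le_rfl (resM L hW w) := by
    refine IsGen.coef_eq _ _ ?_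
    have e := hg.coef_spec le_rfl (resM L hW w)
    rw [mul_smul, e]
    exact (resM_smul L hW r w).symm
  rw [hc, Scheme.basicOpen_mul] at hyb
  refine h W hW (oneSec W) (isGen_oneSec W) y hy ?_
  rw [IsGen.coef_eq _ _ (show (X.presheaf.map (homOfLE hW).op r : Γ(X, W)) • resM _ le_rfl (oneSec W) =
    resM (Coh.structureModule X) hW (show Γ(Coh.structureModule X, V) from r) by rw [resM_self]; exact mul_one (X.presheaf.map (homOfLE hW).op r : Γ(X, W)))]
  exact hyb.1

theorem mem_Vs_iff (hL : PicF.IsInvertible L) {T : Closeds X} (s : GA (baseHom k X) L) :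
    s ∈ Vs k T L ↔ Van (T : Set X) (show Γ(L, ⊤) from s) :=
  pullSec_red_eq_zero_iff hL T (show Γ(L, ⊤) from s)

variable (k) in
/-- The key step. -/
theorem exists_step [IsReduced X] (hdim : topologicalKrullDim X ≤ 1) (hL : PicF.IsInvertible L) (T : Closeds X)
    (hne : Nontrivial (HA (baseHom k X) (NT T L) (⊤ : X.Opens) 1)) :
    ∃ S : Finset (Closeds X), S.Nonempty ∧
      (∀ C ∈ S, (C : Set X) ∈ irreducibleComponents X ∧ ¬ (C : Set X) ⊆ T) ∧
      Module.finrank k (Vs k T L) + Module.finrank k (K1 k (unionC S)) ≤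
        Module.finrank k (Vs k (T ⊔ unionC S) L) +
          Module.finrank k (HA (baseHom k X) (Coh.structureModule X) (⊤ : X.Opens) 1) := by
  classical
  haveI := EulerLib.isNoetherian_of_proper k (X := X)
  let φ := baseHom k X
  have hO : PicF.IsInvertible (Coh.structureModule X) := isInvertible_structureModule
  have hc := PicLib.isCoh_of_isInvertible hL
  have hfin := fun M hM q => finCoh_of_isProper (X ↘ Spec (CommRingCat.of k)) M hM q
  haveI : Module.Finite k (HA φ (Coh.structureModule X) (⊤ : X.Opens) 1) :=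
    hfin _ (isCoh_structureModule X) 1
  haveI : Module.Finite k (GA φ L) := by
    haveI : Module.Finite k (HA φ L (⊤ : X.Opens) 0) := hfin L hc 0
    exact Module.Finite.equiv (secA φ L)
  obtain ⟨v, hv0⟩ := exists_ne (0 : HA φ (NT T L) (⊤ : X.Opens) 1)
  obtain ⟨l, hl⟩ : ∃ l : Module.Dual k (HA φ (NT T L) (⊤ : X.Opens) 1), l v ≠ 0 := by
    by_contra h
    push Not at h
    exact hv0 ((Module.forall_dual_apply_eq_zero_iff k v).1 h)
  have hsub : ∀ S : Finset (Closeds X), (T : Set X) ⊆ (T ⊔ unionC S : Closeds X) := fun _ _ h => Or.inl h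
  let P : Finset (Closeds X) → Prop := fun S =>
    (∀ C ∈ S, (C : Set X) ∈ irreducibleComponents X ∧ ¬ (C : Set X) ⊆ T) ∧
      l ∘ₗ postA φ (incl hL (hsub S)) (⊤ : X.Opens) 1 = 0
  have hex : ∃ n, ∃ S, P S ∧ S.card = n := by
    let S₀ : Finset (Closeds X) := (finite_components (X := X)).toFinset.filter fun C : Closeds X => ¬ (C : Set X) ⊆ T
    refine ⟨_, S₀, ⟨fun C hC => ?_, ?_⟩, rfl⟩
    · obtain ⟨h1, h2⟩ := Finset.mem_filter.1 hC
      exact ⟨(finite_components (X := X)).mem_toFinset.1 h1, h2⟩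
    · have hz : IsZero (NT (T ⊔ unionC S₀) L) := isZero_NT_of_univ hL (Set.eq_univ_of_forall fun x => by
        obtain ⟨C, hC, hxC⟩ := exists_component x
        by_cases hCT : (C : Set X) ⊆ T
        · exact Or.inl (hCT hxC)
        · exact Or.inr (mem_unionC.2 ⟨C, Finset.mem_filter.2
            ⟨(finite_components (X := X)).mem_toFinset.2 hC, hCT⟩, hxC⟩))
      refine LinearMap.ext fun x => ?_
      show l (postA φ (incl hL (hsub S₀)) ⊤ 1 x) = 0
      rw [hz.eq_of_src (incl hL (hsub S₀)) 0, postA_zero, map_zero]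
  obtain ⟨S, ⟨hS, hlS⟩, hcard⟩ := Nat.find_spec hex
  have hmin : ∀ S' ⊆ S, P S' → S' = S := fun S' hS' hP =>
    Finset.eq_of_subset_of_card_le hS' (hcard ▸ Nat.find_min' hex ⟨S', hP, rfl⟩)
  have hSne : S.Nonempty := by
    by_contra hne'
    rw [Finset.not_nonempty_iff_eq_empty] at hne'
    subst hne'
    have hback : ((T ⊔ unionC (∅ : Finset (Closeds X)) : Closeds X) : Set X) ⊆ T := fun x hx =>
      hx.elim id fun h => by
        obtain ⟨C, hC, -⟩ := mem_unionC.1 h
        exact absurd hC (Finset.notMem_empty C)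
    have hid : incl hL hback ≫ incl hL (hsub ∅) = 𝟙 _ := by
      rw [← cancel_mono (kernel.ι (resT T L)), Category.assoc, incl_ι, incl_ι, Category.id_comp]
    apply hl
    have := congrArg (fun θ : Module.Dual k _ => θ (postA φ (incl hL hback) ⊤ 1 v)) hlS
    simp only [LinearMap.comp_apply, LinearMap.zero_apply] at this
    rw [← postA_comp, hid] at this
    rwa [show postA φ (𝟙 (NT T L)) ⊤ 1 v = v from postHM_id _ _ _ v] at this
  refine ⟨S, hSne, hS, ?_⟩
  let W := unionC S
  have hσ : ∀ s : Vs k T L, unitDesc L (show Γ(L, ⊤) from s.1) ≫ resT T L = 0 := fun s =>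
    comp_resT_eq_zero hL T _ fun V r => by
      rw [unitDesc_app]
      exact Van.smul (((mem_Vs_iff hL s.1).1 s.2).res le_top) r
  let σ : Vs k T L → (Coh.structureModule X ⟶ NT T L) := fun s => kernel.lift _ _ (hσ s)
  have hσadd : ∀ s t, σ (s + t) = σ s + σ t := fun s t => by
    rw [← cancel_mono (kernel.ι (resT T L)), Preadditive.add_comp, kernel.lift_ι, kernel.lift_ι, kernel.lift_ι]
    refine hom_ext_one _ _ fun V => ?_
    show (unitDesc L (show Γ(L, ⊤) from s.1 + t.1)).app V (1 : Γ(X, V)) =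
      (unitDesc L (show Γ(L, ⊤) from s.1)).app V (1 : Γ(X, V)) +
        (unitDesc L (show Γ(L, ⊤) from t.1)).app V (1 : Γ(X, V))
    simp only [unitDesc_app, one_smul]
    exact map_add _ _ _
  have hσsmul : ∀ (c : k) s, σ (c • s) = Formal.smulMod k (Coh.structureModule X) c ≫ σ s := fun c s => by
    rw [← cancel_mono (kernel.ι (resT T L)), Category.assoc, kernel.lift_ι, kernel.lift_ι]
    refine hom_ext_one _ _ fun V => ?_
    show (unitDesc L (show Γ(L, ⊤) from (c • s : Vs k T L).1)).app V (1 : Γ(X, V)) =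
      (unitDesc L (show Γ(L, ⊤) from s.1)).app V
        ((Formal.smulMod k (Coh.structureModule X) c).app V (1 : Γ(X, V)))
    rw [unitDesc_app, one_smul, Coherent.smulMod_app, unitDesc_app]
    refine (resM_smul L (le_top : V ≤ ⊤) (φ c) (show Γ(L, ⊤) from s.1)).trans ?_
    exact congrArg (· • _) (mul_one _).symm
  let Φ : Vs k T L →ₗ[k] Module.Dual k (HA φ (Coh.structureModule X) (⊤ : X.Opens) 1) :=
    { toFun := fun s => l ∘ₗ postA φ (σ s) (⊤ : X.Opens) 1
      map_add' := fun s t => LinearMap.ext fun x => by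
        show l (postA φ (σ (s + t)) ⊤ 1 x) = l (postA φ (σ s) ⊤ 1 x) + l (postA φ (σ t) ⊤ 1 x)
        rw [hσadd, ← map_add]
        exact congrArg l (postHM_add (σ s) (σ t) 1 ⊤ x)
      map_smul' := fun c s => LinearMap.ext fun x => by
        show l (postA φ (σ (c • s)) ⊤ 1 x) = c • l (postA φ (σ s) ⊤ 1 x)
        rw [hσsmul, postA_comp, postA_smulMod, map_smul, map_smul] }
  have hrange : LinearMap.range Φ ≤ (K1 k W).dualAnnihilator := by
    rintro _ ⟨s, rfl⟩
    rw [Submodule.mem_dualAnnihilator]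
    rintro _ ⟨y, rfl⟩
    have hz : kernel.ι (resT W (Coh.structureModule X)) ≫ unitDesc L (show Γ(L, ⊤) from s.1) ≫
        resT (T ⊔ W) L = 0 := by
      rw [← Category.assoc]
      refine comp_resT_eq_zero hL (T ⊔ W) _ fun V m => ?_
      show Van _ ((unitDesc L _).app V ((kernel.ι (resT W (Coh.structureModule X))).app V m))
      rw [unitDesc_app]
      exact (Van.smul (((mem_Vs_iff hL s.1).1 s.2).res le_top) _).union
        (van_smul_oneSec hO (van_app_ι hO W m) _)
    let g' : NT W (Coh.structureModule X) ⟶ NT (T ⊔ W) L :=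
      kernel.lift _ (kernel.ι (resT W (Coh.structureModule X)) ≫ unitDesc L (show Γ(L, ⊤) from s.1))
        (by rw [Category.assoc]; exact hz)
    have he : kernel.ι (resT W (Coh.structureModule X)) ≫ σ s = g' ≫ incl hL (hsub S) := by
      rw [← cancel_mono (kernel.ι (resT T L)), Category.assoc, Category.assoc, incl_ι, kernel.lift_ι,
        kernel.lift_ι]
    show l (postA φ (σ s) ⊤ 1 (postA φ (kernel.ι _) ⊤ 1 y)) = 0
    rw [← postA_comp, he, postA_comp]
    exact congrArg (fun θ : Module.Dual k _ => θ (postA φ g' ⊤ 1 y)) hlS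
  have hker : LinearMap.ker Φ ≤ (Vs k (T ⊔ W) L).comap (Vs k T L).subtype := by
    intro s hs
    rw [LinearMap.mem_ker] at hs
    rw [Submodule.mem_comap]
    let s' : Γ(L, ⊤) := s.1
    have hsT : Van (T : Set X) s' := (mem_Vs_iff hL s.1).1 s.2
    refine (mem_Vs_iff hL _).2 (hsT.union ?_)
    let S'' : Finset (Closeds X) := S.filter fun C : Closeds X => Disjoint (C : Set X) (glocus L s' : Set X)
    let W'' := unionC S''
    suffices hP : P S'' by
      rw [van_iff_disjoint_glocus hL]
      refine Set.disjoint_left.2 fun x hx => ?_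
      obtain ⟨C, hC, hxC⟩ := mem_unionC.1 hx
      rw [← hmin S'' (Finset.filter_subset _ _) hP] at hC
      exact Set.disjoint_left.1 (Finset.mem_filter.1 hC).2 hxC
    refine ⟨fun C hC => hS C (Finset.filter_subset _ _ hC), ?_⟩
    have h21 : ((T ⊔ W'' : Closeds X) : Set X) ⊆ (T ⊔ W : Closeds X) := fun x hx =>
      hx.imp id fun h => unionC_mono (Finset.filter_subset _ _) h
    have hs2 : Van ((T ⊔ W'' : Closeds X) : Set X) s' := hsT.union ((van_iff_disjoint_glocus hL s').2
      (Set.disjoint_left.2 fun x hx => by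
        obtain ⟨C, hC, hxC⟩ := mem_unionC.1 hx
        exact Set.disjoint_left.1 (Finset.mem_filter.1 hC).2 hxC))
    let σ₂ : Coh.structureModule X ⟶ NT (T ⊔ W'') L := kernel.lift _ (unitDesc L s')
      (comp_resT_eq_zero hL _ _ fun V r => by rw [unitDesc_app]; exact Van.smul (hs2.res le_top) r)
    let Ω : X.Opens := ⟨((T ⊔ W : Closeds X) : Set X)ᶜ ∪
      ((glocus L s' : Set X) ∩ ((T ⊔ W'' : Closeds X) : Set X)ᶜ) ∪ interior ((T ⊔ W'' : Closeds X) : Set X),
      (((T ⊔ W).isClosed.isOpen_compl.union ((glocus L s').2.inter (T ⊔ W'').isClosed.isOpen_compl)).union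
        isOpen_interior)⟩
    have htop := range_sup_eq_top k hdim (isCoh_NT hL (T ⊔ W)).1 (isCoh_structureModule X).1
      (isCoh_NT hL (T ⊔ W'')).1 (incl hL h21) σ₂ Ω (fun D hD η hη => ?_) (fun V w y hyV hyΩ => ?_)
    · refine LinearMap.ext fun x => ?_
      obtain ⟨_, ⟨a, rfl⟩, _, ⟨b, rfl⟩, rfl⟩ := Submodule.mem_sup.1 (htop.ge (Submodule.mem_top (x := x)))
      show l (postA φ (incl hL (hsub S'')) ⊤ 1 (_ + _)) = 0
      have e1 : incl hL h21 ≫ incl hL (hsub S'') = incl hL (hsub S) := by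
        rw [← cancel_mono (kernel.ι (resT T L)), Category.assoc, incl_ι, incl_ι, incl_ι]
      have e2 : σ₂ ≫ incl hL (hsub S'') = σ s := by
        rw [← cancel_mono (kernel.ι (resT T L)), Category.assoc, incl_ι, kernel.lift_ι, kernel.lift_ι]
      rw [map_add, map_add, ← postA_comp, ← postA_comp, e1, e2]
      have h1 : l (postA φ (incl hL (hsub S)) ⊤ 1 a) = 0 := congrArg (fun θ : Module.Dual k _ => θ a) hlS
      have h2 : l (postA φ (σ s) ⊤ 1 b) = 0 := congrArg (fun θ : Module.Dual k _ => θ b) hs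
      rw [h1, h2, add_zero]
    · by_cases h2 : η ∈ (T ⊔ W'' : Closeds X)
      · refine Or.inr (mem_interior_of_subset hD hη ?_)
        exact hη.def ▸ (T ⊔ W'').isClosed.closure_subset_iff.2 (Set.singleton_subset_iff.2 h2)
      by_cases h1 : η ∈ (T ⊔ W : Closeds X)
      · refine Or.inl (Or.inr ⟨?_, h2⟩)
        rcases h1 with h1 | h1
        · exact absurd (Or.inl h1) h2
        obtain ⟨C, hC, hηC⟩ := mem_unionC.1 h1
        obtain rfl := eq_of_genericPoint_mem hD (hS C hC).1 hη hηC
        have hnd : ¬ Disjoint (D : Set X) (glocus L s' : Set X) := fun hd =>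
          h2 (Or.inr (mem_unionC.2 ⟨D, Finset.mem_filter.2 ⟨hC, hd⟩, hηC⟩))
        exact (hη.mem_open_set_iff (glocus L s').2).2 (Set.not_disjoint_iff_nonempty_inter.1 hnd)
      · exact Or.inl (Or.inl h1)
    · rcases hyΩ with (hy | hy) | hy
      · let U : X.Opens := V ⊓ ⟨_, (T ⊔ W).isClosed.isOpen_compl⟩
        obtain ⟨a, ha⟩ := exists_app_ι_eq hL (T ⊔ W) (V := U)
          (w := (kernel.ι (resT (T ⊔ W'') L)).app U (resM _ inf_le_left w))
          (van_of_disjoint _ (Set.disjoint_left.2 fun z hz hzU => hzU.2 hz))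
        refine ⟨U, inf_le_left, a, 0, ⟨hyV, hy⟩, ?_⟩
        rw [map_zero, add_zero]
        refine app_injective_of_mono (kernel.ι (resT (T ⊔ W'') L)) U (ha.symm.trans ?_)
        show _ = ((incl hL h21 ≫ kernel.ι (resT (T ⊔ W'') L)).app U) a
        rw [incl_ι]
      · let U : X.Opens := V ⊓ glocus L s'
        obtain ⟨r, hr⟩ := (isGen_glocus s' U inf_le_right).2
          ((kernel.ι (resT (T ⊔ W'') L)).app U (resM _ inf_le_left w))
        beta_reduce at hr
        rw [resM_resM] at hr
        refine ⟨U, inf_le_left, 0, r, ⟨hyV, hy.1⟩, ?_⟩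
        rw [map_zero, zero_add]
        refine app_injective_of_mono (kernel.ι (resT (T ⊔ W'') L)) U ?_
        show _ = ((σ₂ ≫ kernel.ι (resT (T ⊔ W'') L)).app U) r
        rw [kernel.lift_ι, unitDesc_app]
        exact hr.symm
      · let U : X.Opens := V ⊓ ⟨_, isOpen_interior (s := ((T ⊔ W'' : Closeds X) : Set X))⟩
        refine ⟨U, inf_le_left, 0, 0, ⟨hyV, hy⟩, ?_⟩
        rw [map_zero, map_zero, add_zero]
        refine app_injective_of_mono (kernel.ι (resT (T ⊔ W'') L)) U ?_
        rw [map_zero]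
        exact eq_zero_of_van hL (van_app_ι hL _ _) fun z hz => interior_subset hz.2
  have h1 := LinearMap.finrank_range_add_finrank_ker Φ
  have h2 := Submodule.finrank_mono hrange
  have h3 := Submodule.finrank_mono hker
  have h4 := Subspace.finrank_add_finrank_dualAnnihilator_eq (K1 k W)
  have h5 : Module.finrank k ((Vs k (T ⊔ W) L).comap (Vs k T L).subtype) ≤
      Module.finrank k (Vs k (T ⊔ W) L) := by
    rw [(Submodule.comap (Vs k T L).subtype (Vs k (T ⊔ W) L)).equivMapOfInjective _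
      (Submodule.subtype_injective _) |>.finrank_eq]
    exact Submodule.finrank_mono (Submodule.map_comap_le _ _)
  change Module.finrank k (Vs k T L) + Module.finrank k (K1 k W) ≤
    Module.finrank k (Vs k (T ⊔ W) L) + Module.finrank k (HA φ (Coh.structureModule X) (⊤ : X.Opens) 1)
  have e1 : Module.finrank k (LinearMap.range Φ) + Module.finrank k (K1 k W) ≤
      Module.finrank k (HA φ (Coh.structureModule X) (⊤ : X.Opens) 1) := by
    refine le_trans (Nat.add_le_add_right h2 _) ?_
    rw [add_comm]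
    exact h4.le
  linarith [h1, h3.trans h5]

end Groth.Agent.Subcurves24
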