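import Groth.Agent.Clifford24.Lipman.Field
import Groth.Agent.EulerLib.Scalar
import Groth.Agent.PicLib.FormalGen

/-!
# Sections vanishing on closed subsets of a reduced scheme
-/

set_option autoImplicit false
set_option linter.style.haveILetI false
set_option backward.isDefEq.respectTransparency.types false

universe u

open CategoryTheory CategoryTheory.Limits AlgebraicGeometry Opposite TopologicalSpace
open Groth.Agent.Coherent Groth.Agent.PicLib Groth.Agent.AmpleLib Groth.Agent.EulerLib

namespace Groth.Agent.Subcurves24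

variable {X : Scheme.{u}} {L : X.Modules}

/-- The section `w` vanishes on `T`. -/
def Van (T : Set X) {V : X.Opens} (w : Γ(L, V)) : Prop :=
  ∀ (W : X.Opens) (h : W ≤ V) (g : Γ(L, W)) (hg : IsGen L W g), ∀ y ∈ T,
    y ∉ X.basicOpen (hg.coef le_rfl (resM L h w))

theorem Van.mono {T T' : Set X} (hT : T' ⊆ T) {V : X.Opens} {w : Γ(L, V)} (h : Van T w) : Van T' w :=
  fun W hW g hg y hy => h W hW g hg y (hT hy)

theorem Van.union {T T' : Set X} {V : X.Opens} {w : Γ(L, V)} (h : Van T w) (h' : Van T' w) :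
    Van (T ∪ T') w := fun W hW g hg y hy => hy.elim (h W hW g hg y) (h' W hW g hg y)

theorem van_of_disjoint {T : Set X} {V : X.Opens} (w : Γ(L, V)) (h : Disjoint T (V : Set X)) :
    Van T w := fun W hW g hg y hy hyb => Set.disjoint_left.1 h hy (hW (X.basicOpen_le _ hyb))

theorem Van.res {T : Set X} {V V' : X.Opens} (hV : V' ≤ V) {w : Γ(L, V)} (h : Van T w) :
    Van T (resM L hV w) := fun W hW g hg y hy => by
  rw [resM_resM]
  exact h W (hW.trans hV) g hg y hy

theorem Van.smul {T : Set X} {V : X.Opens} {w : Γ(L, V)} (h : Van T w) (r : Γ(X, V)) :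
    Van T (r • w) := fun W hW g hg y hy hyb => by
  have hc : hg.coef le_rfl (resM L hW (r • w)) =
      (X.presheaf.map (homOfLE hW).op r : Γ(X, W)) * hg.coef le_rfl (resM L hW w) := by
    refine IsGen.coef_eq _ _ ?_
    have e := hg.coef_spec le_rfl (resM L hW w)
    rw [mul_smul, e]
    exact (resM_smul L hW r w).symm
  rw [hc, Scheme.basicOpen_mul] at hyb
  exact h W hW g hg y hy hyb.2

theorem eq_zero_of_van [IsReduced X] (hL : PicF.IsInvertible L) {T : Set X} {V : X.Opens}
    {w : Γ(L, V)} (h : Van T w) (hV : (V : Set X) ⊆ T) : w = 0 := by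
  refine sec_ext L _ _ fun y hy => ?_
  obtain ⟨U, hyU, g, hg⟩ := exists_isGen hL y
  have hg' := hg.restrict (inf_le_right : V ⊓ U ≤ U)
  refine ⟨V ⊓ U, inf_le_left, ⟨hy, hyU⟩, ?_⟩
  have e := hg'.coef_spec le_rfl (resM L (inf_le_left : V ⊓ U ≤ V) w)
  rw [resM_self] at e
  have hc : hg'.coef le_rfl (resM L (inf_le_left : V ⊓ U ≤ V) w) = 0 :=
    (basicOpen_eq_bot_iff _).1 (eq_bot_iff.2 fun z hz =>
      h (V ⊓ U) inf_le_left _ hg' z (hV (X.basicOpen_le _ hz).1) hz)
  rw [hc, zero_smul] at e
  rw [map_zero]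
  exact e.symm

theorem van_iff_disjoint_glocus (hL : PicF.IsInvertible L) {T : Set X} (s : Γ(L, ⊤)) :
    Van T s ↔ Disjoint T (glocus L s : Set X) := by
  constructor
  · intro h
    refine Set.disjoint_left.2 fun y hy hys => ?_
    obtain ⟨U, hyU, g, hg⟩ := exists_isGen hL y
    exact h U le_top g hg y hy ((glocus_inf s hg).le ⟨hys, hyU⟩)
  · intro h W hW g hg y hy hyb
    exact Set.disjoint_left.1 h hy ((glocus_inf s hg).ge hyb).1

/-- The reduced closed subscheme on `T`. -/
noncomputable abbrev red (T : Closeds X) : X.IdealSheafData := Scheme.IdealSheafData.vanishingIdeal T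

theorem range_red (T : Closeds X) : Set.range (red T).subschemeι = (T : Set X) := by
  rw [Scheme.IdealSheafData.range_subschemeι, Scheme.IdealSheafData.coe_support_vanishingIdeal]

/-- Restriction to the reduced subscheme on `T`. -/
noncomputable abbrev resT (T : Closeds X) (L : X.Modules) :
    L ⟶ (Coh.push (red T).subschemeι).obj ((Scheme.Modules.pullback (red T).subschemeι).obj L) :=
  clUnit (red T).subschemeι L

theorem pullSec_red_eq_zero_iff (hL : PicF.IsInvertible L) (T : Closeds X) {V : X.Opens} (w : Γ(L, V)) :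
    pullSec (red T).subschemeι w = 0 ↔ Van (T : Set X) w := by
  haveI : IsReduced (red T).subscheme := Props12.isReduced_subscheme_vanishingIdeal T
  let ι := (red T).subschemeι
  constructor
  · intro h W hW g hg y hy hyb
    obtain ⟨z, rfl⟩ := (range_red T).superset hy
    let c := hg.coef le_rfl (resM L hW w)
    have e := hg.coef_spec le_rfl (resM L hW w)
    rw [resM_self] at e
    have h1 : pullSec ι (resM L hW w) = 0 := by
      rw [← resM_pullSec ι hW w]
      exact (congrArg _ h).trans (map_zero _)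
    rw [← e, pullSec_smul] at h1
    have hc : ι.app W c = 0 := by
      refine ((isGen_pullSec ι hg hL) _ le_rfl).1 ?_
      show ι.app W c • resM _ le_rfl _ = (0 : Γ((red T).subscheme, _)) • resM _ le_rfl _
      rw [resM_self, h1, zero_smul]
    have hz : z ∈ ι ⁻¹ᵁ X.basicOpen c := hyb
    rw [Scheme.preimage_basicOpen, hc, Scheme.basicOpen_zero] at hz
    exact hz
  · intro h
    refine sec_ext _ _ _ fun z hz => ?_
    obtain ⟨U, hzU, g, hg⟩ := exists_isGen hL (ι z)
    let W := V ⊓ U
    have hg' := hg.restrict (inf_le_right : W ≤ U)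
    refine ⟨ι ⁻¹ᵁ W, fun a ha => ha.1, ⟨hz, hzU⟩, ?_⟩
    let c := hg'.coef le_rfl (resM L (inf_le_left : W ≤ V) w)
    have e := hg'.coef_spec le_rfl (resM L (inf_le_left : W ≤ V) w)
    rw [resM_self] at e
    have hc : ι.app W c = 0 := by
      refine (basicOpen_eq_bot_iff _).1 (eq_bot_iff.2 fun a ha => ?_)
      rw [← Scheme.preimage_basicOpen] at ha
      exact h W inf_le_left _ hg' (ι a) ((range_red T).subset ⟨a, rfl⟩) ha
    rw [map_zero]
    refine (resM_pullSec ι (inf_le_left : W ≤ V) w).trans ?_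
    rw [← e, pullSec_smul, hc, zero_smul]

/-- The submodule of sections vanishing on `T`. -/
noncomputable abbrev NT (T : Closeds X) (L : X.Modules) : X.Modules := kernel (resT T L)

theorem van_app_ι (hL : PicF.IsInvertible L) (T : Closeds X) {V : X.Opens} (m : Γ(NT T L, V)) :
    Van (T : Set X) ((kernel.ι (resT T L)).app V m) :=
  (pullSec_red_eq_zero_iff hL T _).1 (kernel_ι_app_zero (resT T L) V m)

theorem exists_app_ι_eq (hL : PicF.IsInvertible L) (T : Closeds X) {V : X.Opens} {w : Γ(L, V)}
    (h : Van (T : Set X) w) : ∃ m : Γ(NT T L, V), (kernel.ι (resT T L)).app V m = w :=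
  kernel_sections_exact (resT T L) (U := V) w ((pullSec_red_eq_zero_iff hL T w).2 h)

theorem comp_resT_eq_zero {F : X.Modules} (hL : PicF.IsInvertible L) (T : Closeds X) (f : F ⟶ L)
    (h : ∀ (V : X.Opens) (a : Γ(F, V)), Van (T : Set X) (f.app V a)) : f ≫ resT T L = 0 :=
  Scheme.Modules.hom_ext _ _ fun V => ConcreteCategory.hom_ext _ _ fun (a : Γ(F, V)) =>
    (pullSec_red_eq_zero_iff hL T (f.app V a)).2 (h V a)

/-- The inclusion of the sections vanishing on a bigger set. -/
noncomputable def incl (hL : PicF.IsInvertible L) {T T' : Closeds X} (h : (T : Set X) ⊆ T') :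
    NT T' L ⟶ NT T L :=
  kernel.lift _ (kernel.ι (resT T' L))
    (comp_resT_eq_zero hL T _ fun _ m => (van_app_ι hL T' m).mono h)

@[reassoc (attr := simp)]
theorem incl_ι (hL : PicF.IsInvertible L) {T T' : Closeds X} (h : (T : Set X) ⊆ T') :
    incl hL h ≫ kernel.ι (resT T L) = kernel.ι (resT T' L) :=
  kernel.lift_ι _ _ _

instance mono_incl (hL : PicF.IsInvertible L) {T T' : Closeds X} (h : (T : Set X) ⊆ T') :
    Mono (incl hL h) := mono_of_mono_fac (incl_ι hL h)

theorem isZero_NT_of_univ [IsReduced X] (hL : PicF.IsInvertible L) {T : Closeds X}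
    (h : (T : Set X) = Set.univ) : IsZero (NT T L) := by
  refine (IsZero.iff_id_eq_zero _).2 (Scheme.Modules.hom_ext _ _ fun V =>
    ConcreteCategory.hom_ext _ _ fun (m : Γ(NT T L, V)) => ?_)
  refine app_injective_of_mono (kernel.ι (resT T L)) V ?_
  show (kernel.ι (resT T L)).app V m = (kernel.ι (resT T L)).app V 0
  rw [map_zero]
  exact eq_zero_of_van hL (van_app_ι hL T m) (by rw [h]; exact Set.subset_univ _)

theorem isCoh_NT [IsLocallyNoetherian X] (hL : PicF.IsInvertible L) (T : Closeds X) :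
    Coh.IsCoh (NT T L) := by
  have hc := PicLib.isCoh_of_isInvertible hL
  haveI := hc.1
  haveI : Coh.IsQCoh ((Scheme.Modules.pullback (red T).subschemeι).obj L) :=
    EGA43.InjFibre.isQCoh_pullback _ L
  exact isCoh_kernel (resT T L) hc (isQCoh_push _ _)

end Groth.Agent.Subcurves24
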